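import Cfsg.Agent.Lib.Helper57.OPar.Defs

set_option autoImplicit false

/-!
# OPAR [PDER+] (S5989), package [KB]: the shift matrix `sh F d h d`, `d = 2 h + 1`
-/

namespace Cfsg.Agent.Lib.Helper52.OPar

open Matrix Cfsg.Agent.Lib.Helper57.OPar

universe u

section

variable {F : Type u} [Field F] {d h : ℕ}

theorem sh_full_apply (i k : Fin d) :
    sh F d h d i k = if k.val = i.val + h then 1 else 0 := by
  simp [sh]

theorem sh_sq_apply (i k : Fin d) :
    (sh F d h d * sh F d h d) i k = if k.val = i.val + 2 * h then 1 else 0 := by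
  rw [Matrix.mul_apply]
  by_cases hk : k.val = i.val + 2 * h
  · rw [if_pos hk]
    have hj : i.val + h < d := by have := k.2; omega
    rw [Finset.sum_eq_single (⟨i.val + h, hj⟩ : Fin d)]
    · rw [sh_full_apply, sh_full_apply, if_pos rfl, if_pos (by simp only; omega), mul_one]
    · intro j _ hne
      rw [sh_full_apply, if_neg (fun e => hne (Fin.ext e)), zero_mul]
    · intro hne
      exact absurd (Finset.mem_univ _) hne
  · rw [if_neg hk]
    apply Finset.sum_eq_zero
    intro j _
    rw [sh_full_apply, sh_full_apply]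
    by_cases h1 : j.val = i.val + h
    · rw [if_pos h1, if_neg (by omega), mul_zero]
    · rw [if_neg h1, zero_mul]

theorem sh_cube (hh : 1 ≤ h) (hd : d = 2 * h + 1) :
    sh F d h d * sh F d h d * sh F d h d = 0 := by
  ext i k
  rw [Matrix.mul_apply, Matrix.zero_apply]
  apply Finset.sum_eq_zero
  intro j _
  rw [sh_sq_apply, sh_full_apply]
  by_cases h1 : j.val = i.val + 2 * h
  · have := k.2
    rw [if_pos h1, if_neg (by omega), mul_zero]
  · rw [if_neg h1, zero_mul]

theorem sh_ne_zero (hh : 1 ≤ h) (hd : d = 2 * h + 1) : sh F d h d ≠ 0 := by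
  intro h0
  have h1 := congrFun (congrFun h0 ⟨0, by omega⟩) ⟨h, by omega⟩
  rw [sh_full_apply, if_pos (by simp), Matrix.zero_apply] at h1
  exact one_ne_zero h1

theorem xM_sub_one (M : Matrix (Fin d) (Fin d) F) :
    xM M - 1 = Matrix.fromBlocks M 0 0 (-Mᵀ + Mᵀ * Mᵀ) := by
  rw [sub_eq_iff_eq_add, xM]
  conv_rhs => rw [← Matrix.fromBlocks_one, Matrix.fromBlocks_add]
  congr 1
  · abel
  · simp
  · simp
  · abel

/-- the kernel of `M`: the coordinates from `h` on vanish -/
theorem ker_sh (a : Fin d → F) (ha : sh F d h d *ᵥ a = 0) (k : Fin d) (hk : h ≤ k.val) :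
    a k = 0 := by
  have h1 := congrFun ha ⟨k.val - h, by have := k.2; omega⟩
  rw [Matrix.mulVec, dotProduct, Finset.sum_eq_single k] at h1
  · rw [sh_full_apply, if_pos (by simp only; omega), one_mul] at h1
    exact h1
  · intro j _ hne
    rw [sh_full_apply, if_neg (fun e => hne (Fin.ext (by simp only at e; omega))), zero_mul]
  · intro hne
    exact absurd (Finset.mem_univ _) hne

theorem lower_apply (k i : Fin d) :
    (-(sh F d h d)ᵀ + (sh F d h d)ᵀ * (sh F d h d)ᵀ) k i =
      -(if k.val = i.val + h then (1 : F) else 0) + (if k.val = i.val + 2 * h then 1 else 0) := by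
  rw [← Matrix.transpose_mul, Matrix.add_apply, Matrix.neg_apply, Matrix.transpose_apply,
    Matrix.transpose_apply, sh_full_apply, sh_sq_apply]

/-- the kernel of the lower block: the coordinates up to `h` vanish -/
theorem ker_lower (hh : 1 ≤ h) (hd : d = 2 * h + 1) (b : Fin d → F)
    (hb : (-(sh F d h d)ᵀ + (sh F d h d)ᵀ * (sh F d h d)ᵀ) *ᵥ b = 0) (i : Fin d)
    (hi : i.val ≤ h) : b i = 0 := by
  have hlow : ∀ i : Fin d, i.val < h → b i = 0 := by
    intro i hi
    have h1 := congrFun hb ⟨i.val + h, by omega⟩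
    rw [Matrix.mulVec, dotProduct, Finset.sum_eq_single i] at h1
    · rw [lower_apply, if_pos rfl, if_neg (by simp only; omega), add_zero, neg_one_mul] at h1
      exact neg_eq_zero.mp h1
    · intro j _ hne
      rw [lower_apply, if_neg (fun e => hne (Fin.ext (by simp only at e; omega))),
        if_neg (by simp only; omega), neg_zero, add_zero, zero_mul]
    · intro hne
      exact absurd (Finset.mem_univ _) hne
  rcases Nat.lt_or_ge i.val h with hlt | hge
  · exact hlow i hlt
  · have hih : i.val = h := le_antisymm hi hge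
    have h0 : b ⟨0, by omega⟩ = 0 := hlow ⟨0, by omega⟩ (by simp only; omega)
    have h1 := congrFun hb ⟨2 * h, by omega⟩
    rw [Matrix.mulVec, dotProduct] at h1
    simp only [lower_apply, add_mul, Finset.sum_add_distrib] at h1
    rw [Finset.sum_eq_single i, Finset.sum_eq_single (⟨0, by omega⟩ : Fin d)] at h1
    · rw [if_pos (by omega), if_pos (by simp only; omega), h0] at h1
      simpa using h1
    · intro j _ hne
      rw [if_neg (fun e => hne (Fin.ext (by simp only at e ⊢; omega))), zero_mul]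
    · intro hne
      exact absurd (Finset.mem_univ _) hne
    · intro j _ hne
      rw [if_neg (fun e => hne (Fin.ext (by omega))), neg_zero, zero_mul]
    · intro hne
      exact absurd (Finset.mem_univ _) hne

/-- the kernel of `N = xM M - 1` -/
theorem ker_N (hh : 1 ≤ h) (hd : d = 2 * h + 1) (u : Fin d ⊕ Fin d → F)
    (hu : (xM (sh F d h d) - 1) *ᵥ u = 0) :
    (∀ k : Fin d, h ≤ k.val → u (Sum.inl k) = 0) ∧ (∀ i : Fin d, i.val ≤ h → u (Sum.inr i) = 0) := by
  rw [xM_sub_one, Matrix.fromBlocks_mulVec] at hu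
  have h1 : sh F d h d *ᵥ (u ∘ Sum.inl) = 0 := by
    funext i
    have := congrFun hu (Sum.inl i)
    simpa using this
  have h2 : (-(sh F d h d)ᵀ + (sh F d h d)ᵀ * (sh F d h d)ᵀ) *ᵥ (u ∘ Sum.inr) = 0 := by
    funext i
    have := congrFun hu (Sum.inr i)
    simpa using this
  exact ⟨fun k hk => ker_sh _ h1 k hk, fun i hi => ker_lower hh hd _ h2 i hi⟩

theorem polar_ker (hh : 1 ≤ h) (hd : d = 2 * h + 1) (u v : Fin d ⊕ Fin d → F)
    (hu : (xM (sh F d h d) - 1) *ᵥ u = 0) (hv : (xM (sh F d h d) - 1) *ᵥ v = 0) :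
    QuadraticMap.polar (Cfsg.quadFormPlus d F) u v = 0 := by
  obtain ⟨hu1, hu2⟩ := ker_N hh hd u hu
  obtain ⟨hv1, hv2⟩ := ker_N hh hd v hv
  simp only [QuadraticMap.polar, Cfsg.quadFormPlus, Pi.add_apply]
  rw [← Finset.sum_sub_distrib, ← Finset.sum_sub_distrib]
  apply Finset.sum_eq_zero
  intro i _
  by_cases hi : h ≤ i.val
  · rw [hu1 i hi, hv1 i hi]
    ring
  · rw [hu2 i (by omega), hv2 i (by omega)]
    ring

theorem lower_sq {R : Type*} [Ring R] (T : R) (hT : T * T * T = 0) :
    (-T + T * T) * (-T + T * T) = T * T := by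
  have h1 : T * (T * T) = 0 := by rw [← mul_assoc]; exact hT
  have h2 : T * T * (T * T) = 0 := by rw [← mul_assoc, hT, zero_mul]
  calc (-T + T * T) * (-T + T * T) = T * T - T * (T * T) - T * T * T + T * T * (T * T) := by
        noncomm_ring
    _ = T * T := by rw [h1, hT, h2]; simp

theorem N_sq (hh : 1 ≤ h) (hd : d = 2 * h + 1) :
    (xM (sh F d h d) - 1) * (xM (sh F d h d) - 1) =
      Matrix.fromBlocks (sh F d h d * sh F d h d) 0 0 ((sh F d h d * sh F d h d)ᵀ) := by
  have hT : (sh F d h d)ᵀ * (sh F d h d)ᵀ * (sh F d h d)ᵀ = 0 := by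
    rw [← Matrix.transpose_mul, ← Matrix.transpose_mul, ← mul_assoc, sh_cube hh hd,
      Matrix.transpose_zero]
  rw [xM_sub_one, Matrix.fromBlocks_multiply, lower_sq _ hT, Matrix.transpose_mul]
  simp

theorem range_le (hh : 1 ≤ h) (hd : d = 2 * h + 1) [DecidableEq (Fin d ⊕ Fin d → F)] :
    LinearMap.range (Matrix.toLin' ((xM (sh F d h d) - 1) * (xM (sh F d h d) - 1))) ≤
      Submodule.span F ((({Pi.single (Sum.inl ⟨0, by omega⟩) 1,
        Pi.single (Sum.inr ⟨2 * h, by omega⟩) 1} : Finset (Fin d ⊕ Fin d → F)) :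
          Set (Fin d ⊕ Fin d → F))) := by
  rintro w ⟨v, rfl⟩
  rw [Matrix.toLin'_apply, N_sq hh hd, Matrix.fromBlocks_mulVec, Finset.coe_insert,
    Finset.coe_singleton, Submodule.mem_span_pair]
  have hl : ∀ i : Fin d, i.val ≠ 0 → ((sh F d h d * sh F d h d) *ᵥ (v ∘ Sum.inl)) i = 0 := by
    intro i hi
    rw [Matrix.mulVec, dotProduct]
    apply Finset.sum_eq_zero
    intro k _
    have := k.2
    rw [sh_sq_apply, if_neg (by omega), zero_mul]
  have hr : ∀ k : Fin d, k.val ≠ 2 * h →
      ((sh F d h d * sh F d h d)ᵀ *ᵥ (v ∘ Sum.inr)) k = 0 := by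
    intro k hk
    rw [Matrix.mulVec, dotProduct]
    apply Finset.sum_eq_zero
    intro i _
    have := k.2
    rw [Matrix.transpose_apply, sh_sq_apply, if_neg (by omega), zero_mul]
  refine ⟨((sh F d h d * sh F d h d) *ᵥ (v ∘ Sum.inl)) ⟨0, by omega⟩,
    ((sh F d h d * sh F d h d)ᵀ *ᵥ (v ∘ Sum.inr)) ⟨2 * h, by omega⟩, ?_⟩
  funext j
  rcases j with i | k
  · simp only [Pi.add_apply, Pi.smul_apply, Sum.elim_inl, Pi.single_apply, smul_eq_mul,
      Matrix.zero_mulVec, add_zero, reduceCtorEq, if_false, mul_zero, Sum.inl.injEq]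
    by_cases hi : i.val = 0
    · have : i = ⟨0, by omega⟩ := Fin.ext hi
      rw [this, if_pos rfl, mul_one]
    · rw [if_neg (fun e => hi (congrArg Fin.val e)), mul_zero, hl i hi]
  · simp only [Pi.add_apply, Pi.smul_apply, Sum.elim_inr, Pi.single_apply, smul_eq_mul,
      Matrix.zero_mulVec, zero_add, reduceCtorEq, if_false, mul_zero, Sum.inr.injEq]
    by_cases hk : k.val = 2 * h
    · have : k = ⟨2 * h, by omega⟩ := Fin.ext hk
      rw [this, if_pos rfl, mul_one]
    · rw [if_neg (fun e => hk (congrArg Fin.val e)), mul_zero, hr k hk]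

end

/-- [KB] -/
theorem pkgKB : Cfsg.Agent.Lib.Helper57.OPar.PkgKB.{u} := by
  intro F _ d h hh hd
  classical
  refine ⟨sh_cube hh hd, sh_ne_zero hh hd, fun u v hu hv => polar_ker hh hd u v hu hv, ?_⟩
  refine (Submodule.finrank_mono (range_le hh hd)).trans ?_
  exact (finrank_span_finset_le_card _).trans Finset.card_le_two

example : Cfsg.Agent.Lib.Helper57.OPar.PkgKB.{0} := pkgKB
example : Cfsg.Agent.Lib.Helper57.OPar.PkgKB.{3} := pkgKB

end Cfsg.Agent.Lib.Helper52.OPar
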